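import Cfsg.Agent.CpAut.Alt
import Cfsg.Agent.CpAut.RankOne
import Cfsg.Agent.LThree.Red
import Cfsg.Agent.FastGrp
import Cfsg.Agent.Prune
set_option linter.all false
prune_inst 0x7f00000000000000000000000000000000000000000000000000000000000000000000000000000000000000000000000000000000000000000000000000000000000000000000000000000000000000003fffffffffffffffffffffffffffbeffbdffffffff
open scoped Cfsg.Agent.FastGrp

-- merged: Cfsg.Agent.CpAutFiSeven.Quo
section

/-!
# Groups mapping onto `A_p` or `S_p` with a kernel of `p`-part at most `p`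

* `exists_perfect` : every finite group has a perfect normal subgroup with solvable quotient;
* `comps_of_perm` : `f : H →* S_p` with `A_p ≤ f(H)`, `x ∈ Z(H)` of order `p` in the kernel, `p^2` does not divide
  the order of the kernel: all components of `H / O_{p'}(H)` are `C_p`-groups (`p ≥ 5`).
-/

set_option autoImplicit false

namespace Cfsg.Agent.CpAutFiSeven

open Subgroup Cfsg Equiv Equiv.Perm
open Cfsg.Agent.LThree (Comps)

universe u

theorem exists_perfect {H : Type*} [Group H] [Finite H] :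
    ∃ n, 1 ≤ n ∧ ⁅derivedSeries H n, derivedSeries H n⁆ = derivedSeries H n := by
  have h1 : ∃ n, 1 ≤ n ∧ Nat.card ↥(derivedSeries H (n + 1)) = Nat.card ↥(derivedSeries H n) := by
    by_contra hcon
    push Not at hcon
    have h2 : ∀ n, Nat.card ↥(derivedSeries H (n + 1)) + n ≤ Nat.card ↥(derivedSeries H 1) := by
      intro n
      induction n with
      | zero => simp
      | succ n ih =>
        have h3 : Nat.card ↥(derivedSeries H (n + 1 + 1)) ≤ Nat.card ↥(derivedSeries H (n + 1)) :=
          card_le_of_le (derivedSeries_antitone H (Nat.le_succ _))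
        have h4 := hcon (n + 1) (by omega)
        omega
    have h5 := h2 (Nat.card ↥(derivedSeries H 1) + 1)
    omega
  obtain ⟨n, hn, h⟩ := h1
  refine ⟨n, hn, ?_⟩
  rw [← derivedSeries_succ]
  exact eq_of_le_of_card_ge (derivedSeries_antitone H (Nat.le_succ _)) h.ge

/-- a group of order `p` or `p ^ 2` is commutative -/
theorem comm_of_card {P : Type*} [Group P] [Finite P] {p : ℕ} [Fact p.Prime] (hp : IsPGroup p P)
    (h : ¬ p ^ 3 ∣ Nat.card P) (a b : P) : a * b = b * a := by
  obtain ⟨n, hn⟩ := IsPGroup.iff_card.1 hp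
  have hn3 : n < 3 := by
    by_contra h3
    apply h
    rw [hn]
    exact pow_dvd_pow p (by omega)
  interval_cases n
  · rw [pow_zero] at hn
    have := (Nat.card_eq_one_iff_unique.1 hn).1
    exact Subsingleton.elim _ _
  · rw [pow_one] at hn
    have : IsCyclic P := isCyclic_of_prime_card hn
    let _ := this.commGroup
    exact mul_comm a b
  · let _ := IsPGroup.commGroupOfCardEqPrimeSq hn
    exact mul_comm a b

theorem comps_of_perm {H : Type u} [Group H] [Finite H] {p : ℕ} (hp : p.Prime) (hp5 : 5 ≤ p)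
    (f : H →* Perm (Fin p)) (hA : alternatingGroup (Fin p) ≤ f.range) {x : H} (hxc : ∀ g : H, g * x = x * g)
    (hx : orderOf x = p) (hfx : f x = 1) (hk : ¬ p ^ 2 ∣ Nat.card ↥f.ker) : Comps p H := by
  have : Fact p.Prime := ⟨hp⟩
  have hp2 : p ≠ 2 := by omega
  obtain ⟨n, hn, hL⟩ := exists_perfect (H := H)
  set L : Subgroup H := derivedSeries H n with hLdef
  have hLn : L.Normal := derivedSeries_normal H n
  have hsol : Group.IsSolvable (H ⧸ L) := by
    refine (Group.isSolvable_def _).2 ⟨n, ?_⟩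
    rw [← map_derivedSeries_eq (QuotientGroup.mk'_surjective L), Subgroup.map_eq_bot_iff, QuotientGroup.ker_mk']
  have hcard5 : 5 ≤ Nat.card (Fin p) := by rw [Nat.card_eq_fintype_card, Fintype.card_fin]; exact hp5
  -- the image of `L`
  have hmap : L.map f = alternatingGroup (Fin p) := by
    apply le_antisymm
    · rw [← hL, map_commutator]
      refine (commutator_mono le_top le_top).trans ?_
      exact alternatingGroup.commutator_perm_le
    · -- `A_p` is perfect
      have h1 : ∀ k, alternatingGroup (Fin p) ≤ (derivedSeries H k).map f := by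
        intro k
        induction k with
        | zero => rw [derivedSeries_zero, ← MonoidHom.range_eq_map]; exact hA
        | succ k ih =>
          rw [derivedSeries_succ, map_commutator, ← commutator_alternatingGroup_eq_self hcard5]
          exact commutator_mono ih ih
      exact h1 n
  -- the restriction
  let f0 : ↥L →* ↥(alternatingGroup (Fin p)) :=
    (f.comp L.subtype).codRestrict _ (fun a => by rw [← hmap]; exact ⟨a, a.2, rfl⟩)
  have hf0 : Function.Surjective f0 := by
    rintro ⟨σ, hσ⟩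
    rw [← hmap] at hσ
    obtain ⟨a, ha, hfa⟩ := hσ
    exact ⟨⟨a, ha⟩, Subtype.ext hfa⟩
  have hker : ∀ a : ↥L, a ∈ f0.ker ↔ f (a : H) = 1 := by
    intro a
    rw [MonoidHom.mem_ker]
    exact ⟨fun h => congrArg Subtype.val h, fun h => Subtype.ext h⟩
  have hkerdvd : Nat.card ↥f0.ker ∣ Nat.card ↥f.ker := by
    have h1 : Nat.card ↥(f0.ker.map L.subtype) = Nat.card ↥f0.ker := card_map_of_injective L.subtype_injective
    rw [← h1]
    apply card_dvd_of_le
    rintro _ ⟨a, ha, rfl⟩
    exact (hker a).1 ha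
  have hk0 : ¬ p ^ 2 ∣ Nat.card ↥f0.ker := fun h => hk (h.trans hkerdvd)
  have hLp : ¬ p ^ 3 ∣ Nat.card ↥L := by
    intro h
    have h1 : Nat.card ↥L = Nat.card ↥f0.ker * Nat.card ↥(alternatingGroup (Fin p)) := by
      rw [← f0.ker.card_mul_index, index_ker, MonoidHom.range_eq_top.2 hf0, card_top]
    have h2 : ¬ p ^ 2 ∣ Nat.card ↥(alternatingGroup (Fin p)) := by
      intro h3
      have h4 : p ^ 2 ∣ p.factorial := by
        refine h3.trans ?_
        have h5 : Nat.card ↥(alternatingGroup (Fin p)) ∣ Nat.card (Perm (Fin p)) := card_subgroup_dvd_card _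
        have h51 : Nat.card (Perm (Fin p)) = p.factorial := by rw [Nat.card_perm, Nat.card_fin]
        rwa [h51] at h5
      obtain ⟨m, rfl⟩ : ∃ m, p = m + 1 := ⟨p - 1, by omega⟩
      rw [Nat.factorial_succ, pow_two] at h4
      have h5 := Nat.dvd_of_mul_dvd_mul_left (Nat.succ_pos m) h4
      rw [hp.dvd_factorial] at h5
      omega
    rw [h1] at h
    have h6 : (Nat.card ↥f0.ker * Nat.card ↥(alternatingGroup (Fin p))) ≠ 0 :=
      (Nat.mul_pos Nat.card_pos Nat.card_pos).ne'
    have h7 := (padicValNat_dvd_iff_le (p := p) h6).1 h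
    rw [padicValNat.mul Nat.card_pos.ne' Nat.card_pos.ne'] at h7
    have h8 : padicValNat p (Nat.card ↥f0.ker) < 2 := by
      by_contra h9
      exact hk0 ((padicValNat_dvd_iff_le Nat.card_pos.ne').2 (by omega))
    have h9 : padicValNat p (Nat.card ↥(alternatingGroup (Fin p))) < 2 := by
      by_contra h9
      exact h2 ((padicValNat_dvd_iff_le Nat.card_pos.ne').2 (by omega))
    omega
  have hperf : Group.IsPerfect ↥L := by
    rw [Group.isPerfect_def, eq_top_iff]
    have h1 : (⊤ : Subgroup ↥L).map L.subtype ≤ (commutator ↥L).map L.subtype := by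
      rw [map_subtype_commutator, hL, ← MonoidHom.range_eq_map, range_subtype]
    exact (map_le_map_iff_of_injective L.subtype_injective).1 h1
  -- the kernel is a `p'`-group
  have hkp : (Nat.card ↥f0.ker).Coprime p := by
    rw [Nat.coprime_comm, hp.coprime_iff_not_dvd]
    intro hd
    obtain ⟨a, ha⟩ := exists_prime_orderOf_dvd_card' p hd
    -- `a` and `x` generate the same subgroup
    have hao : orderOf ((a : ↥L) : H) = p := by rw [Subgroup.orderOf_coe, Subgroup.orderOf_coe, ha]
    have hxa : x ∈ zpowers ((a : ↥L) : H) := by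
      by_contra hxn
      apply hk
      -- the subgroup generated by `a` and `x`
      have hcomm : Commute ((a : ↥L) : H) x := hxc _
      have h1 : zpowers ((a : ↥L) : H) ⊓ zpowers x = ⊥ := by
        by_contra hne
        have h2 : zpowers ((a : ↥L) : H) ⊓ zpowers x ≤ zpowers x := inf_le_right
        have h3 : Nat.card ↥(zpowers ((a : ↥L) : H) ⊓ zpowers x : Subgroup H) ∣ p := by
          have := card_dvd_of_le h2
          rwa [Nat.card_zpowers, hx] at this
        rcases (Nat.dvd_prime hp).1 h3 with h4 | h4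
        · exact hne (eq_bot_of_card_eq _ h4)
        · have h5 : zpowers ((a : ↥L) : H) ⊓ zpowers x = zpowers x :=
            eq_of_le_of_card_ge h2 (by rw [Nat.card_zpowers, hx, h4])
          apply hxn
          have h6 : x ∈ zpowers ((a : ↥L) : H) ⊓ zpowers x := by rw [h5]; exact mem_zpowers x
          exact h6.1
      let φ : ↥(zpowers ((a : ↥L) : H)) × ↥(zpowers x) →* H :=
        MonoidHom.noncommCoprod (zpowers ((a : ↥L) : H)).subtype (zpowers x).subtype (by
          rintro ⟨_, i, rfl⟩ ⟨_, j, rfl⟩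
          exact (hcomm.zpow_zpow i j))
      have hφ : Function.Injective φ := by
        rw [MonoidHom.noncommCoprod_injective]
        refine ⟨(zpowers ((a : ↥L) : H)).subtype_injective, (zpowers x).subtype_injective, ?_⟩
        rw [range_subtype, range_subtype]
        exact disjoint_iff.2 h1
      have h9 : Nat.card ↥φ.range = p ^ 2 := by
        rw [← Nat.card_congr (MonoidHom.ofInjective hφ).toEquiv, Nat.card_prod, Nat.card_zpowers, Nat.card_zpowers,
          hx, hao, pow_two]
      rw [← h9]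
      apply card_dvd_of_le
      rintro _ ⟨⟨u, v⟩, rfl⟩
      have hu : (u : H) ∈ f.ker := (zpowers_le.2 ((hker a).1 a.2 : ((a : ↥L) : H) ∈ f.ker)) u.2
      have hv : (v : H) ∈ f.ker := (zpowers_le.2 (hfx : x ∈ f.ker)) v.2
      exact mul_mem hu hv
    have hxL : x ∈ L := (zpowers_le.2 (a : ↥L).2) hxa
    let z : ↥L := ⟨x, hxL⟩
    have hzo : orderOf z = p := (Subgroup.orderOf_mk x hxL).trans hx
    have hzpg : IsPGroup p ↥(zpowers z) := IsPGroup.of_card (n := 1) (by rw [Nat.card_zpowers, hzo, pow_one])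
    obtain ⟨P, hP⟩ := hzpg.exists_le_sylow
    have h5 : z = 1 := by
      refine CpAut.central_eq_one hperf P ?_ ?_ (hP (mem_zpowers z))
      · intro b hb c hc
        have h6 : ¬ p ^ 3 ∣ Nat.card ↥(P : Subgroup ↥L) := fun h7 => hLp (h7.trans (card_subgroup_dvd_card _))
        exact congrArg Subtype.val (comm_of_card P.isPGroup' h6 ⟨b, hb⟩ ⟨c, hc⟩)
      · rw [mem_center_iff]
        intro g
        exact Subtype.ext (hxc g)
    have h6 : x = 1 := congrArg Subtype.val h5
    rw [h6, orderOf_one] at hx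
    exact hp.ne_one hx.symm
  -- conclusion
  have hAc : Comps p ↥(alternatingGroup (Fin p)) := by
    have h1 : InC p ↥(⊤ : Subgroup ↥(alternatingGroup (Fin p))) :=
      (CpQuot.Congr.inC_iff (topEquiv : (⊤ : Subgroup ↥(alternatingGroup (Fin p))) ≃* _) p).2
        (CpAut.inC_alt hp2 hp5 (Or.inl rfl))
    refine Comps.of_normal hp ⊤ h1 ?_
    have : Subsingleton (↥(alternatingGroup (Fin p)) ⧸ (⊤ : Subgroup ↥(alternatingGroup (Fin p)))) :=
      QuotientGroup.subsingleton_quotient_top
    infer_instance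
  exact LThree.Red.comps_of_normal L hsol ((LThree.Red.comps_iff_of_surj f0 hf0 hkp).1 hAc)

end Cfsg.Agent.CpAutFiSeven

end

-- merged: Cfsg.Agent.CpAutFiSeven.Tri
section

/-!
# Transpositions commuting with an element of order 7

`Tri L x t`: the members of `L` commuting with `x` are the `t i j` (`i ≠ j` in `Fin 7`), which act on each other like the
transpositions of `S_7`. The centralizer of `x` maps to `Perm (Fin 7)` (`Tri.exists_hom`); `Tri.comps`: the conclusion.
-/

set_option autoImplicit false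

namespace Cfsg.Agent.CpAutFiSeven

open Subgroup Cfsg Equiv Equiv.Perm
open Cfsg.Agent.LThree (Comps)

universe u

variable {F : Type*} [Group F] {L : Set F} {x : F} {t : Fin 7 → Fin 7 → F}

/-- the transpositions commuting with `x` form an `S_7` -/
structure Tri (L : Set F) (x : F) (t : Fin 7 → Fin 7 → F) : Prop where
  mem : ∀ i j, i ≠ j → t i j ∈ L
  comm : ∀ i j, i ≠ j → x * t i j = t i j * x
  surj : ∀ d ∈ L, x * d = d * x → ∃ i j, i ≠ j ∧ d = t i j
  symm : ∀ i j, t i j = t j i
  inj : ∀ i j k l, i ≠ j → k ≠ l → t i j = t k l → (i = k ∧ j = l) ∨ (i = l ∧ j = k)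
  conj : ∀ i j k l, i ≠ j → k ≠ l → t i j * t k l * (t i j)⁻¹ = t (swap i j k) (swap i j l)

namespace Tri

theorem conj_by (h : Tri L x t) (hL : ∀ d ∈ L, ∀ g : F, g * d * g⁻¹ ∈ L) (g : F) :
    Tri L (g * x * g⁻¹) (fun i j => g * t i j * g⁻¹) where
  mem i j hij := hL _ (h.mem i j hij) g
  comm i j hij := by
    have h1 := h.comm i j hij
    calc g * x * g⁻¹ * (g * t i j * g⁻¹) = g * (x * t i j) * g⁻¹ := by group
      _ = g * (t i j * x) * g⁻¹ := by rw [h1]
      _ = g * t i j * g⁻¹ * (g * x * g⁻¹) := by group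
  surj d hd hxd := by
    have h1 : x * (g⁻¹ * d * g) = g⁻¹ * d * g * x := by
      calc x * (g⁻¹ * d * g) = g⁻¹ * (g * x * g⁻¹ * d) * g := by group
        _ = g⁻¹ * (d * (g * x * g⁻¹)) * g := by rw [hxd]
        _ = g⁻¹ * d * g * x := by group
    have h2 : g⁻¹ * d * g ∈ L := by
      have := hL d hd g⁻¹
      rwa [inv_inv] at this
    obtain ⟨i, j, hij, h3⟩ := h.surj _ h2 h1
    refine ⟨i, j, hij, ?_⟩
    rw [← h3]
    group
  symm i j := by rw [h.symm i j]
  inj i j k l hij hkl h1 := by
    have h2 : t i j = t k l := mul_left_cancel (mul_right_cancel h1)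
    exact h.inj i j k l hij hkl h2
  conj i j k l hij hkl := by
    rw [← h.conj i j k l hij hkl]
    group

/-- only the commuting relation with `x` matters -/
theorem congr (h : Tri L x t) {y : F} (hy : ∀ d : F, y * d = d * y ↔ x * d = d * x) : Tri L y t where
  mem := h.mem
  comm i j hij := (hy _).2 (h.comm i j hij)
  surj d hd hyd := h.surj d hd ((hy d).1 hyd)
  symm := h.symm
  inj := h.inj
  conj := h.conj

theorem conj_same (h : Tri L x t) {i j k : Fin 7} (hij : i ≠ j) (hik : i ≠ k) (hjk : j ≠ k) :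
    t i j * t i k * (t i j)⁻¹ = t j k := by
  rw [h.conj i j i k hij hik, swap_apply_left, swap_apply_of_ne_of_ne hik.symm hjk.symm]

theorem ne (h : Tri L x t) {i j k : Fin 7} (hij : i ≠ j) (hik : i ≠ k) (hjk : j ≠ k) : t i j ≠ t i k := by
  intro h1
  rcases h.inj i j i k hij hik h1 with ⟨-, h2⟩ | ⟨h2, -⟩
  · exact hjk h2
  · exact hik h2

theorem not_comm (h : Tri L x t) {i j k : Fin 7} (hij : i ≠ j) (hik : i ≠ k) (hjk : j ≠ k) :
    t i j * t i k ≠ t i k * t i j := by
  intro h1
  have h2 := h.conj_same hij hik hjk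
  rw [h1, mul_inv_cancel_right, h.symm i k, h.symm j k] at h2
  exact h.ne hik.symm hjk.symm hij h2

theorem comm_of_disjoint (h : Tri L x t) {i j k l : Fin 7} (hij : i ≠ j) (hkl : k ≠ l) (h1 : i ≠ k) (h2 : i ≠ l)
    (h3 : j ≠ k) (h4 : j ≠ l) : t i j * t k l = t k l * t i j := by
  have h5 := h.conj i j k l hij hkl
  rw [swap_apply_of_ne_of_ne h1.symm h3.symm, swap_apply_of_ne_of_ne h2.symm h4.symm] at h5
  exact mul_inv_eq_iff_eq_mul.1 h5

/-- two noncommuting ones have a common letter -/
theorem exists_common (h : Tri L x t) {a b c d : Fin 7} (hab : a ≠ b) (hcd : c ≠ d)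
    (hn : t a b * t c d ≠ t c d * t a b) :
    ∃ s p q, s ≠ p ∧ s ≠ q ∧ p ≠ q ∧ t a b = t s p ∧ t c d = t s q := by
  have key : ∀ s p q, s ≠ p → s ≠ q → t a b = t s p → t c d = t s q →
      ∃ s p q, s ≠ p ∧ s ≠ q ∧ p ≠ q ∧ t a b = t s p ∧ t c d = t s q := by
    intro s p q hsp hsq h1 h2
    refine ⟨s, p, q, hsp, hsq, ?_, h1, h2⟩
    rintro rfl
    rw [h1, h2] at hn
    exact hn rfl
  by_cases h1 : a = c
  · subst h1
    exact key a b d hab hcd rfl rfl
  by_cases h2 : a = d
  · subst h2
    exact key a b c hab hcd.symm rfl (h.symm _ _)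
  by_cases h3 : b = c
  · subst h3
    exact key b a d hab.symm hcd (h.symm _ _) rfl
  by_cases h4 : b = d
  · subst h4
    exact key b a c hab.symm hcd.symm (h.symm _ _) (h.symm _ _)
  exact absurd (h.comm_of_disjoint hab hcd h1 h2 h3 h4) hn

/-- a third one not commuting with `t s p`, `t s q` and different from `t p q` contains `s` -/
theorem exists_third (h : Tri L x t) {s p q a b : Fin 7} (hsp : s ≠ p) (hsq : s ≠ q) (hpq : p ≠ q) (hab : a ≠ b)
    (h1 : t a b * t s p ≠ t s p * t a b) (h2 : t a b * t s q ≠ t s q * t a b) (h3 : t a b ≠ t p q) :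
    ∃ r, s ≠ r ∧ t a b = t s r := by
  by_cases ha : a = s
  · subst ha
    exact ⟨b, hab, rfl⟩
  by_cases hb : b = s
  · subst hb
    exact ⟨a, hab.symm, h.symm _ _⟩
  exfalso
  have h4 : a = p ∨ b = p := by
    by_contra hcon
    push Not at hcon
    exact h1 (h.comm_of_disjoint hab hsp ha hcon.1 hb hcon.2)
  have h5 : a = q ∨ b = q := by
    by_contra hcon
    push Not at hcon
    exact h2 (h.comm_of_disjoint hab hsq ha hcon.1 hb hcon.2)
  rcases h4 with h4 | h4 <;> rcases h5 with h5 | h5
  · exact hpq (h4.symm.trans h5)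
  · rw [h4, h5] at h3
    exact h3 rfl
  · rw [h4, h5, h.symm] at h3
    exact h3 rfl
  · exact hpq (h4.symm.trans h5)

theorem exists_two (i : Fin 7) : ∃ j k : Fin 7, i ≠ j ∧ i ≠ k ∧ j ≠ k := by
  revert i
  decide

theorem exists_other (i j : Fin 7) : ∃ k : Fin 7, i ≠ k ∧ j ≠ k := by
  revert i j
  decide

/-- an element commuting with `x` permutes the letters -/
theorem exists_perm (h : Tri L x t) (hL : ∀ d ∈ L, ∀ g : F, g * d * g⁻¹ ∈ L) {c : F} (hc : c * x = x * c) :
    ∃ σ : Perm (Fin 7), ∀ i j, i ≠ j → c * t i j * c⁻¹ = t (σ i) (σ j) := by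
  have hu : ∀ i j, i ≠ j → ∃ a b, a ≠ b ∧ c * t i j * c⁻¹ = t a b := by
    intro i j hij
    refine h.surj _ (hL _ (h.mem i j hij) c) ?_
    have h1 : x * c⁻¹ = c⁻¹ * x := by
      rw [mul_inv_eq_iff_eq_mul, mul_assoc, ← hc, inv_mul_cancel_left]
    calc x * (c * t i j * c⁻¹) = (x * c) * t i j * c⁻¹ := by group
      _ = c * (x * t i j) * c⁻¹ := by rw [← hc]; group
      _ = c * t i j * (x * c⁻¹) := by rw [h.comm i j hij]; group
      _ = c * t i j * c⁻¹ * x := by rw [h1]; group
  -- the image of a star is a star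
  have hs : ∀ i, ∃ s, ∀ l, i ≠ l → ∃ r, s ≠ r ∧ c * t i l * c⁻¹ = t s r := by
    intro i
    obtain ⟨j, k, hij, hik, hjk⟩ := exists_two i
    obtain ⟨a, b, hab, h1⟩ := hu i j hij
    obtain ⟨a', b', hab', h2⟩ := hu i k hik
    have h3 : t a b * t a' b' ≠ t a' b' * t a b := by
      rw [← h1, ← h2]
      intro h4
      apply h.not_comm hij hik hjk
      have h5 : c * (t i j * t i k) * c⁻¹ = c * (t i k * t i j) * c⁻¹ := by
        calc c * (t i j * t i k) * c⁻¹ = c * t i j * c⁻¹ * (c * t i k * c⁻¹) := by group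
          _ = c * t i k * c⁻¹ * (c * t i j * c⁻¹) := h4
          _ = c * (t i k * t i j) * c⁻¹ := by group
      exact mul_left_cancel (mul_right_cancel h5)
    obtain ⟨s, p, q, hsp, hsq, hpq, h4, h5⟩ := h.exists_common hab hab' h3
    rw [h4] at h1
    rw [h5] at h2
    have h6 : c * t j k * c⁻¹ = t p q := by
      rw [← h.conj_same hij hik hjk, ← h.conj_same hsp hsq hpq, ← h1, ← h2]
      group
    refine ⟨s, fun l hil => ?_⟩
    by_cases hlj : l = j
    · subst hlj
      exact ⟨p, hsp, h1⟩
    by_cases hlk : l = k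
    · subst hlk
      exact ⟨q, hsq, h2⟩
    obtain ⟨a₁, b₁, hab₁, h7⟩ := hu i l hil
    have hnc : ∀ m, i ≠ m → l ≠ m → c * t i l * c⁻¹ * (c * t i m * c⁻¹) ≠ c * t i m * c⁻¹ * (c * t i l * c⁻¹) := by
      intro m him hlm h8
      apply h.not_comm hil him hlm
      have h9 : c * (t i l * t i m) * c⁻¹ = c * (t i m * t i l) * c⁻¹ := by
        calc c * (t i l * t i m) * c⁻¹ = c * t i l * c⁻¹ * (c * t i m * c⁻¹) := by group
          _ = c * t i m * c⁻¹ * (c * t i l * c⁻¹) := h8
          _ = c * (t i m * t i l) * c⁻¹ := by group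
      exact mul_left_cancel (mul_right_cancel h9)
    have h8 := hnc j hij hlj
    have h9 := hnc k hik hlk
    rw [h7, h1] at h8
    rw [h7, h2] at h9
    have h10 : t a₁ b₁ ≠ t p q := by
      rw [← h7, ← h6]
      intro h11
      have h12 : t i l = t j k := mul_left_cancel (mul_right_cancel h11)
      rcases h.inj i l j k hil hjk h12 with ⟨h13, -⟩ | ⟨h13, -⟩
      · exact hij h13
      · exact hik h13
    obtain ⟨r, hr, h11⟩ := h.exists_third hsp hsq hpq hab₁ h8 h9 h10
    exact ⟨r, hr, h7.trans h11⟩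
  choose σ hσ using hs
  have hinj : Function.Injective σ := by
    intro i j hij
    by_contra hne
    obtain ⟨k, hik, hjk⟩ := exists_other i j
    obtain ⟨r, hr, h1⟩ := hσ i k hik
    obtain ⟨r', hr', h2⟩ := hσ j k hjk
    obtain ⟨r'', hr'', h3⟩ := hσ i j hne
    rw [← hij] at h2 hr'
    have hrr : r ≠ r' := by
      rintro rfl
      rw [← h2] at h1
      have h4 : t i k = t j k := mul_left_cancel (mul_right_cancel h1)
      rw [h.symm i k, h.symm j k] at h4
      exact h.ne hik.symm hjk.symm hne h4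
    have h4 : c * t i j * c⁻¹ = t r r' := by
      rw [← h.conj_same hr hr' hrr, ← h1, ← h2]
      have h5 : t i j = t i k * t j k * (t i k)⁻¹ := by
        rw [h.symm i k, h.symm j k, h.conj_same hik.symm hjk.symm hne]
      rw [h5]
      group
    rw [h3] at h4
    rcases h.inj _ _ _ _ hr'' hrr h4 with ⟨h5, -⟩ | ⟨h5, -⟩
    · exact hr h5
    · exact hr' h5
  refine ⟨Equiv.ofBijective σ (Finite.injective_iff_bijective.1 hinj), fun i j hij => ?_⟩
  change _ = t (σ i) (σ j)
  have hne : σ i ≠ σ j := fun h1 => hij (hinj h1)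
  obtain ⟨r, hr, h1⟩ := hσ i j hij
  obtain ⟨r', hr', h2⟩ := hσ j i hij.symm
  rw [h.symm j i] at h2
  rw [h2] at h1
  rcases h.inj _ _ _ _ hr' hr h1 with ⟨h3, -⟩ | ⟨-, h3⟩
  · exact absurd h3.symm hne
  · rw [h2, h3, h.symm]

theorem perm_unique (h : Tri L x t) {σ τ : Perm (Fin 7)} (h1 : ∀ i j, i ≠ j → t (σ i) (σ j) = t (τ i) (τ j)) :
    σ = τ := by
  ext i
  congr 1
  by_contra hne
  obtain ⟨j, k, hij, hik, hjk⟩ := exists_two i
  have h2 : ∀ m, i ≠ m → σ i = τ m := by
    intro m him
    rcases h.inj _ _ _ _ (fun h3 => him (σ.injective h3)) (fun h3 => him (τ.injective h3)) (h1 i m him) with h3 | h3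
    · exact absurd h3.1 hne
    · exact h3.1
  exact hjk (τ.injective ((h2 j hij).symm.trans (h2 k hik)))

/-- the homomorphism to `Perm (Fin 7)` -/
theorem exists_hom (h : Tri L x t) (hL : ∀ d ∈ L, ∀ g : F, g * d * g⁻¹ ∈ L) {H : Type*} [Group H] (ι : H →* F)
    (hι : ∀ g, ι g * x = x * ι g) :
    ∃ f : H →* Perm (Fin 7), ∀ g i j, i ≠ j → ι g * t i j * (ι g)⁻¹ = t (f g i) (f g j) := by
  have h1 : ∀ g, ∃ σ : Perm (Fin 7), ∀ i j, i ≠ j → ι g * t i j * (ι g)⁻¹ = t (σ i) (σ j) :=
    fun g => h.exists_perm hL (hι g)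
  choose f hf using h1
  refine ⟨MonoidHom.mk' f ?_, hf⟩
  intro g k
  apply h.perm_unique
  intro i j hij
  rw [← hf (g * k) i j hij, Perm.mul_apply, Perm.mul_apply,
    ← hf g _ _ (fun h2 => hij ((f k).injective h2)), ← hf k i j hij, map_mul]
  group

end Tri

/-- products of two transpositions generate the alternating group -/
theorem alt_le {α : Type*} [Fintype α] [DecidableEq α] (K : Subgroup (Perm α))
    (h : ∀ s t : Perm α, s.IsSwap → t.IsSwap → s * t ∈ K) : alternatingGroup α ≤ K := by
  intro σ hσ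
  have key : ∀ (n : ℕ) (l : List (Perm α)), (∀ g ∈ l, IsSwap g) → l.length = 2 * n → l.prod ∈ K := by
    intro n
    induction n with
    | zero =>
      intro l _ hl
      rw [Nat.mul_zero, List.length_eq_zero_iff] at hl
      subst hl
      exact K.one_mem
    | succ n ih =>
      intro l hl hn
      match l, hl, hn with
      | [], _, hn => simp at hn
      | [a], _, hn => simp at hn; omega
      | a :: b :: l, hl, hn =>
        rw [List.prod_cons, List.prod_cons, ← mul_assoc]
        refine K.mul_mem (h a b (hl a (by simp)) (hl b (by simp))) (ih l (fun g hg => hl g (by simp [hg])) ?_)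
        simp only [List.length_cons] at hn
        omega
  obtain ⟨l, hl, hsw⟩ := σ.truncSwapFactors.out
  have h1 : Even l.length := (prod_list_swap_mem_alternatingGroup_iff_even_length hsw).1 (by rw [hl]; exact hσ)
  obtain ⟨n, hn⟩ := h1
  rw [← hl]
  exact key n l hsw (by omega)

/-- **the centralizer of `x`, when some transpositions commute with `x`** -/
theorem Tri.comps {F : Type u} [Group F] [Finite F] {L : Set F} {N : Subgroup F} {x : ↥N}
    {t : Fin 7 → Fin 7 → F} (h : Tri L (x : F) t) (hL : ∀ d ∈ L, ∀ g : F, g * d * g⁻¹ ∈ L)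
    (hN : ∀ d ∈ L, ∀ e ∈ L, d * e ∈ N) (hx : orderOf x = 7)
    (hc : ∀ d ∈ L, ¬ 49 ∣ Nat.card ↥(centralizer {d} : Subgroup F)) : Comps 7 ↥(centralizer {x} : Subgroup ↥N) := by
  let ι : ↥(centralizer {x} : Subgroup ↥N) →* F := N.subtype.comp (centralizer {x}).subtype
  have hιinj : Function.Injective ι := N.subtype_injective.comp (centralizer {x}).subtype_injective
  have hmem : ∀ g : ↥(centralizer {x} : Subgroup ↥N), (g : ↥N) * x = x * (g : ↥N) := fun g =>
    (mem_centralizer_singleton_iff.1 g.2)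
  obtain ⟨f, hf⟩ := h.exists_hom hL ι (fun g => congrArg Subtype.val (hmem g))
  let x' : ↥(centralizer {x} : Subgroup ↥N) := ⟨x, mem_centralizer_singleton_iff.2 rfl⟩
  refine comps_of_perm (by norm_num) (by norm_num) f ?_ (x := x') ?_ ?_ ?_ ?_
  · -- the range
    apply alt_le
    rintro _ _ ⟨i, j, hij, rfl⟩ ⟨k, l, hkl, rfl⟩
    have h1 : t i j * t k l ∈ N := hN _ (h.mem i j hij) _ (h.mem k l hkl)
    have h2 : (⟨t i j * t k l, h1⟩ : ↥N) ∈ centralizer {x} := by
      rw [mem_centralizer_singleton_iff]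
      apply Subtype.ext
      change t i j * t k l * x = x * (t i j * t k l)
      rw [mul_assoc, ← h.comm k l hkl, ← mul_assoc, ← h.comm i j hij, mul_assoc]
    refine ⟨⟨⟨_, h1⟩, h2⟩, ?_⟩
    apply h.perm_unique
    intro a b hab
    rw [← hf _ a b hab]
    change t i j * t k l * t a b * (t i j * t k l)⁻¹ = _
    rw [Perm.mul_apply, Perm.mul_apply, ← h.conj i j _ _ hij (fun h3 => hab ((swap k l).injective h3)),
      ← h.conj k l a b hkl hab]
    group
  · intro g
    exact Subtype.ext (hmem g)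
  · rw [← hx, Subgroup.orderOf_mk]
  · apply h.perm_unique
    intro a b hab
    rw [← hf _ a b hab]
    change (x : F) * t a b * (x : F)⁻¹ = t a b
    rw [h.comm a b hab, mul_inv_cancel_right]
  · intro h1
    refine hc (t 0 1) (h.mem 0 1 (by decide)) (Dvd.dvd.trans ?_ (h1.trans ?_))
    · norm_num
    have h2 : Nat.card ↥(f.ker.map ι) = Nat.card ↥f.ker := card_map_of_injective hιinj
    rw [← h2]
    apply card_dvd_of_le
    rintro _ ⟨g, hg, rfl⟩
    rw [mem_centralizer_singleton_iff]
    have h3 := hf g 0 1 (by decide)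
    rw [(MonoidHom.mem_ker).1 hg] at h3
    exact mul_inv_eq_iff_eq_mul.1 h3

end Cfsg.Agent.CpAutFiSeven

end
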